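import Cfsg.Agent.MS.ModD
import Cfsg.Agent.CONW.ZK1

/-! notes/MS.md, section ModA. -/

set_option autoImplicit false

namespace Cfsg.Agent.MS

open Subgroup H29 CONW CONW.Y.YM

theorem nz_cases {x : Equiv.Perm GolayPt} (h : x ∈ normalizer (Spor.M12 : Set (Equiv.Perm GolayPt))) :
    ∃ l ∈ Spor.M12, x = l ∨ x = l * pi := by
  obtain ⟨l, e | e⟩ := ZK.aut_cases (Spor.M12.normalizerMonoidHom ⟨x, h⟩)
  · exact ⟨l, l.2, .inl (congrArg Subtype.val (ZK.c_inj (e.trans (ZK.c_conj l).symm)))⟩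
  · refine ⟨l, l.2, .inr (congrArg Subtype.val (ZK.c_inj (a₂ := ⟨l, le_normalizer l.2⟩ * ZK.nl 5) (e.trans ?_)))⟩
    rw [map_mul, ZK.c_conj]; rfl

theorem pi_A24 : pi ∈ A24 := mem_sup_right (mem_zpowers _)

theorem A24_eq : A24 = normalizer (Spor.M12 : Set (Equiv.Perm GolayPt)) := by
  refine le_antisymm (sup_le le_normalizer (zpowers_le.2 ZK.pi_nz)) fun x h => ?_
  obtain ⟨l, hl, rfl | rfl⟩ := nz_cases h
  exacts [mem_sup_left hl, mul_mem (mem_sup_left hl) pi_A24]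

theorem pi_not : pi ∉ Spor.M12 := fun h => ZK.five_not_inn ⟨⟨pi, h⟩, rfl⟩

theorem exists_eqv : ∃ e : A24 ≃* MulAut Spor.M12, ∀ l : A24, (l : Equiv.Perm GolayPt) ∈ Spor.M12 →
    ∃ m : Spor.M12, e l = MulAut.conj m :=
  ⟨(MulEquiv.subgroupCongr A24_eq).trans (MulEquiv.ofBijective _ ⟨ZK.c_inj, ZK.c_surj⟩), fun l h => ⟨⟨l, h⟩, rfl⟩⟩

end Cfsg.Agent.MS
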