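import Cfsg.Agent.MS.ModA

/-! notes/MS.md, section ModB. -/

set_option autoImplicit false
set_option maxRecDepth 100000

namespace Cfsg.Agent.MS

open Subgroup H29 H14 CONW.Y.YM

namespace MB

/-- product of codes -/
noncomputable def ml (P Q : ℕ) : ℕ := comp (nat_lit 5) (nat_lit 32) (nat_lit 24) P Q
/-- inverse of a code -/
noncomputable def iv (P : ℕ) : ℕ := H14.inv (nat_lit 5) (nat_lit 32) (nat_lit 24) P
/-- power of a code -/
noncomputable def pw (P e : ℕ) : ℕ := powP (nat_lit 5) (nat_lit 32) (nat_lit 24) P e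
/-- the code of the identity -/
noncomputable def on : ℕ := idP (nat_lit 5) (nat_lit 24)
/-- membership in `M12` -/
noncomputable def in12 (P : ℕ) : Bool :=
  inM24 P && Nat.beq (img (nat_lit 5) (nat_lit 32) (nat_lit 24) P 340831) 340831
/-- membership in `M12 : 2` -/
noncomputable def ok (P : ℕ) : Bool := valid (nat_lit 5) (nat_lit 32) (nat_lit 24) P &&
  (in12 P || force (ml P (iv (nat_lit 0x6818394d2f80af54122b31c2aa38b6))) in12)

/-- the codes of the elements `U l f k` -/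
def tab : List ℕ := [
  0xbdab49ca307b9ac5a928398a418820, 0x71eaa8a6707dc4c5d248b00a323426, 0x759ea9ca2cadc502d1213996323500,
  0xb9df48a66cab9b02aa41b016418906, 0x544ae39ac85d0817dc109caad10d89, 0xa4cb7b00e85a8617b8d08a6a269192,
  0xa457739ac12a868ab80c9c9e269209, 0x54d6eb00e12d088adccc8a5ed10e12, 0x69a034c65560aef092650590aa3967,
  0x1020494d35635cf08e2531d1455d76, 0x119844c64f835d540e6b0583455ca7, 0x6818394d2f80af54122b31c2aa38b6,
  0x24902058c508d4b634f54c617751f3, 0x1a50d31c050928b60ad594e0eba9f1, 0x1c82d058cb41285808ef4c58ebaab3,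
  0x2242231c0b40d45836cf94d97752b1, 0xa4eae39acc7a8905dc018a4a268d12, 0x546b7b00ec7d0705b8c19c8ad11109,
  0x54df739ad0ad06c2b8088a56d11032, 0xa45eeb00f0aa88c2dcc89c96268c29, 0xbd8aa8a6615b8487d24c39aa41b600,
  0x71cb49ca215dda87a92cb02a320a06, 0x759748a6682dda1aaa50399e320980, 0xb9d6a9ca282b841ad130b01e41b586,
  0x2258d058d580e8f408e594c3772971, 0x1c98231c158114f436c54c42ebd173, 0x1a602058cf611550b4eb94d0ebd0b1,
  0x24a0d31c0f60e9508acb4c517728b3, 0x1182394d25436eb8123505994539e7, 0x680244c645409cb80e7531d8aa5df6,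
  0x6990494d2b089c560e2f05a0aa5ea7, 0x101034c64b0b6e56126f31e1453ab6, 0x559779a6282d0817ba4c382a268e06,
  0xa1d6e8ca682a8617dd2cb1aad11200, 0xa58ae9a6215a868ade50381ed11186, 0x51cb78ca615d088ab930b19e268d80,
  0x746b4382cc7dc502a8c89a5641b432, 0xbceaab18ec7b9b02d0088c96320829, 0xbc5ea382d0ab9ac5d0c19a4a320912,
  0x74df4b18f0adc4c5a8018c8a41b509, 0x2010d9452b08d4580a753598ebd1e7, 0x199024ce4b092858363501d97729f6,
  0x18022945254128b6366f35a1772aa7, 0x2182d4ce4540d4b60a2f01e0ebd2b6, 0x1258335815835cf090eb9450aa5cb3,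
  0x6c98401cd580aef08ecb4cd14538b1, 0x6a6043580f60af540ce59443453973, 0x14a0301ccf635d5412c54cc2aa5d71,
  0xbc4b4b18e85b841aa80c9a5e323612, 0x74caa382c85dda1ad0cc8c9e418a09, 0x7456ab18e12dda87d0109a6a418992,
  0xbcd74382c12b8487a8d08caa323589, 0x51dee9a62cad0705de48b18a269020, 0xa59f78ca6caa8905b928380ad10c26,
  0xa1eb79a6307a88c2ba41b196d10d00, 0x55aae8ca707d06c2dd213816269106, 0x1250401cc50b6eb80ecf9458aa3ab3,
  0x6c90335805089cb810ef4cd9455eb1, 0x6a42301ccb409c5612d59461455df3, 0x148243580b436e560cf54ce0aa39f1,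
  0x1998d9452f8115508a6501d1775176, 0x201824ce4f80e950b6253590eba967, 0x21a029453560e8f4366b01c2eba8b6,
  0x1820d4ce556114f40a2b35837750a7
  ]

/-- numbering -/
def ix : F4 → ℕ
  | .o => 0 | .i => 1 | .w => 2 | .v => 3

/-- the code of `U l f k` -/
noncomputable def tU (l f k : F4) : ℕ := nthD tab 0 (16 * ix l + 4 * ix f + ix k)
/-- the code of `s` -/
def cs : ℕ := nat_lit 0x3b97150a8c2d930acda1b8de034904
/-- the code of `r` -/
def cr : ℕ := nat_lit 0x7aa65736e98d592b2c40a10e1440c3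
/-- the code of `p` -/
def cp : ℕ := nat_lit 0xbc57650a8c7b80829db09caa419829
/-- the code of `j` -/
def cj : ℕ := nat_lit 0x7da74aca29bb98d52e00298e118888

/-- the code of an element -/
noncomputable def cd (x : A24) : ℕ := GE.pk (x : Equiv.Perm GolayPt)

open Classical in
/-- the element with a given code -/
noncomputable def el (P : ℕ) : A24 := if h : GE.perm P ∈ A24 then ⟨GE.perm P, h⟩ else 1

theorem cd_eq {a b : A24} : a = b ↔ cd a = cd b :=
  ⟨fun h => h ▸ rfl, fun h => Subtype.ext (GE.pk_injective h)⟩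
theorem cd_mul (a b : A24) : cd (a * b) = ml (cd a) (cd b) := GE.pk_mul _ _
theorem cd_inv (a : A24) : cd a⁻¹ = iv (cd a) := GE.pk_inv _
theorem cd_pow (a : A24) (e : ℕ) : cd (a ^ e) = pw (cd a) e := GE.pk_pow _ _
theorem cd_one : cd 1 = on := GE.pk_one

open scoped Pointwise in
theorem mem12 {g : Equiv.Perm GolayPt} : g ∈ Spor.M12 ↔ in12 (GE.pk g) = true := by
  rw [M12_eq, mem_inf, mem_M24_iff_inM24, in12, Bool.and_eq_true, beq_iff, MulAction.mem_stabilizer_iff, smul_bits]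
  exact and_congr_right fun _ => ⟨bits_inj (GE.img_pk_lt _ _) (by decide), congrArg _⟩

theorem coe_el {P : ℕ} (h : ok P = true) : (el P : Equiv.Perm GolayPt) = GE.perm P := by
  simp only [ok, Bool.and_eq_true, Bool.or_eq_true, force_eq] at h
  have e : GE.pk pi = nat_lit 0x6818394d2f80af54122b31c2aa38b6 := GE.pk_perm (by decide +kernel)
  have h1 : GE.perm P ∈ A24 := by
    rcases h.2 with h2 | h2
    · exact mem_sup_left (mem12.2 (by rwa [GE.pk_perm h.1]))
    · rw [← A24.mul_mem_cancel_right (A24.inv_mem pi_A24)]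
      exact mem_sup_left (mem12.2 (by rwa [GE.pk_mul, GE.pk_inv, GE.pk_perm h.1, e]))
  rw [el, dif_pos h1]

theorem cd_el {P : ℕ} (h : ok P = true) : cd (el P) = P := by
  rw [cd, coe_el h]
  simp only [ok, Bool.and_eq_true] at h
  exact GE.pk_perm h.1

theorem cd_U (l f k : F4) : cd (el (tU l f k)) = tU l f k := cd_el (by revert l f k; decide +kernel)
theorem cd_s : cd (el cs) = cs := cd_el (by decide +kernel)
theorem cd_r : cd (el cr) = cr := cd_el (by decide +kernel)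
theorem cd_p : cd (el cp) = cp := cd_el (by decide +kernel)
theorem cd_j : cd (el cj) = cj := cd_el (by decide +kernel)

theorem memL_iff' {x : A24} : x ∈ Spor.M12.subgroupOf A24 ↔ in12 (cd x) = true := mem_subgroupOf.trans mem12

theorem idx : (Spor.M12.subgroupOf A24).index = 2 := by
  refine index_eq_two_iff.2 ⟨(⟨pi, pi_A24⟩ : A24)⁻¹, fun b => ?_⟩
  obtain ⟨l, hl, e | e⟩ := nz_cases (A24_eq.le b.2)
  · refine .inr ⟨mem_subgroupOf.2 (e ▸ hl), fun h => pi_not ?_⟩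
    have h1 : (b : Equiv.Perm GolayPt) * pi⁻¹ ∈ Spor.M12 := mem_subgroupOf.1 h
    rwa [e, mul_mem_cancel_left hl, inv_mem_iff] at h1
  · refine .inl ⟨mem_subgroupOf.2 ?_, fun h => pi_not ?_⟩
    · change (b : Equiv.Perm GolayPt) * pi⁻¹ ∈ Spor.M12
      rwa [e, mul_inv_cancel_right]
    · have h1 : (b : Equiv.Perm GolayPt) ∈ Spor.M12 := mem_subgroupOf.1 h
      rwa [e, mul_mem_cancel_left hl] at h1

/-- a search over both cosets of `M12` -/
theorem all2 {L : List (ℕ × ℕ)} {f : ℕ → Bool}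
    (h : allI (nat_lit 5) (nat_lit 32) (nat_lit 24) m12CertL 0 L []
      (fun H => f H && force (ml H (tU 0 F4.v 0)) f) = true)
    (hc : ∀ q ∈ L, ok q.1 = true ∧ ok q.2 = true ∧ ml (tU 0 F4.v 0) q.1 = ml q.1 (tU 0 F4.v 0))
    (x : A24) (hx : ∀ q ∈ L, x * el q.1 = el q.2 * x) : f (cd x) = true := by
  have key : ∀ y : A24, y ∈ Spor.M12.subgroupOf A24 → (∀ q ∈ L, y * el q.1 = el q.2 * y) →
      f (cd y) = true ∧ f (cd (y * el (tU 0 F4.v 0))) = true := fun y hy hq => by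
    have := m12_chain.forall_of_allI (GE.fixes_zero _) h y (mem_subgroupOf.1 hy) ⟨fun q h1 => by
      rw [← coe_el (hc q h1).1, ← coe_el (hc q h1).2.1]
      exact congrArg Subtype.val (hq q h1), fun _ hd => absurd hd List.not_mem_nil⟩
    rwa [Bool.and_eq_true, force_eq, ← cd_U, ← cd, ← cd_mul] at this
  by_cases hm : x ∈ Spor.M12.subgroupOf A24
  · exact (key x hm hx).1
  · have h1 : el (tU 0 F4.v 0) ∉ Spor.M12.subgroupOf A24 := by
      rw [memL_iff', cd_U]; decide +kernel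
    have := (key (x * (el (tU 0 F4.v 0))⁻¹) ((mul_mem_iff_of_index_two idx).2 (by
      rw [inv_mem_iff]; exact iff_of_false hm h1)) fun q h2 => ?_).2
    · rwa [inv_mul_cancel_right] at this
    · have h3 : el (tU 0 F4.v 0) * el q.1 = el q.1 * el (tU 0 F4.v 0) := by
        rw [cd_eq, cd_mul, cd_mul, cd_U, cd_el (hc q h2).1, (hc q h2).2.2]
      rw [← mul_assoc, ← hx q h2, mul_assoc, mul_assoc, (Commute.inv_left h3).eq]

/-- the parameters of the elements of `C(z)` -/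
def LZ : List ((F4 × F4 × F4) × ℕ × ℕ) :=
  ([0, 1, F4.w, F4.v] ×ˢ [0, 1, F4.w, F4.v] ×ˢ [0, 1, F4.w, F4.v]) ×ˢ [0, 1] ×ˢ [0, 1, 2]

theorem cz (x : A24) (h : x * el (tU 0 0 1) = el (tU 0 0 1) * x) :
    ∃ l f k, ∃ i n : ℕ, x = el (tU l f k) * el cs ^ i * el cp ^ n := by
  have key : forceL (LZ.map fun q => ml (ml (tU q.1.1 q.1.2.1 q.1.2.2) (pw cs q.2.1)) (pw cp q.2.2)) (fun C =>
      allI (nat_lit 5) (nat_lit 32) (nat_lit 24) m12CertL 0 [(tU 0 0 1, tU 0 0 1)] []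
        fun H => memL C H && force (ml H (tU 0 F4.v 0)) (memL C)) = true := by decide +kernel
  rw [forceL_eq] at key
  obtain ⟨q, -, e⟩ := List.mem_map.1 (memL_iff.1 (all2 key (by decide +kernel) x fun q hq => by
    rw [List.mem_singleton.1 hq]; exact h))
  exact ⟨_, _, _, _, _, by rw [cd_eq, ← e, cd_mul, cd_mul, cd_pow, cd_pow, cd_U, cd_s, cd_p]⟩

theorem cj' (x : A24) (ha : x * el (tU 0 1 0) = el (tU 0 1 0) * x)
    (hc : x * el (tU 0 F4.v 0) = el (tU 0 F4.v 0) * x) (hr : x * el cr * x⁻¹ = (el cr)⁻¹)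
    (hz : (x * el (tU 0 0 1)) ^ 3 = 1) : x = el cj := by
  have key : allI (nat_lit 5) (nat_lit 32) (nat_lit 24) m12CertL 0
      [(tU 0 1 0, tU 0 1 0), (tU 0 F4.v 0, tU 0 F4.v 0), (cr, iv cr)] []
      (fun H => (fun H => bimp (Nat.beq (pw (ml H (tU 0 0 1)) 3) on) (Nat.beq H cj)) H &&
        force (ml H (tU 0 F4.v 0)) fun H => bimp (Nat.beq (pw (ml H (tU 0 0 1)) 3) on) (Nat.beq H cj)) = true := by
    decide +kernel
  have e : el (iv cr) = (el cr)⁻¹ := by rw [cd_eq, cd_inv, cd_r, cd_el (by decide +kernel)]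
  have := all2 key (by decide +kernel) x (by
    simp only [List.forall_mem_cons, List.not_mem_nil, false_imp_iff, implies_true, and_true, e]
    exact ⟨ha, hc, mul_inv_eq_iff_eq_mul.1 hr⟩)
  rw [bimp_iff, beq_iff, beq_iff] at this
  rw [cd_eq, cd_j]
  exact this (by rw [← cd_U, ← cd_mul, ← cd_pow, hz, cd_one])

theorem za : ¬ IsConj (el (tU 0 0 1)) (el (tU 0 1 0)) := fun h => by
  obtain ⟨c, hc⟩ := isConj_iff.1 h
  have := GE.cycInv_conj (congrArg Subtype.val (mul_inv_eq_iff_eq_mul.1 hc))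
  rw [← cd, ← cd, cd_U, cd_U] at this
  exact absurd this (by decide +kernel)

end MB

open MB in
theorem exists_af : ∃ d : AD A24, d.L = Spor.M12.subgroupOf A24 ∧ AF d := by
  refine ⟨⟨Spor.M12.subgroupOf A24, fun l f k => el (tU l f k), el cs, el cr, el cp, el cj⟩, rfl,
    idx, ?_, ?_, ?_, ?_, ?_, ?_, ?_, ?_, ?_, ?_, ?_, ?_, ?_, ?_, ?_, ?_, ?_, ?_, ?_, ?_, ?_, ?_, ?_, cz, za, cj'⟩ <;>
  simp only [memL_iff', cd_eq (a := _ * _), cd_eq (a := el _), cd_eq (a := _ ^ _), MB.cd_mul, cd_inv, cd_pow, cd_one,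
    cd_U, cd_s, cd_r, cd_p, cd_j] <;>
  decide +kernel

end Cfsg.Agent.MS
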