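import Cfsg.Agent.MS.Defs

/-! notes/MS.md, section BaseA. -/

set_option autoImplicit false
set_option linter.unusedSectionVars false

namespace Cfsg.Agent.MS

open Subgroup H29 H42

variable {A : Type*} [Group A] [Finite A] {d : AD A}

namespace BA

theorem Ue {l f k l' f' k' : F4} (h : l = l' ∧ f = f' ∧ k = k') : d.U l f k = d.U l' f' k' := by
  rw [h.1, h.2.1, h.2.2]

theorem cj_of {x y : A} (h : x * y = y * x) : x * y * x⁻¹ = y := by rw [h, mul_inv_cancel_right]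

theorem of_cj {x y : A} (h : x * y * x⁻¹ = y) : x * y = y * x := by
  rw [← h, inv_mul_cancel_right, h]

end BA

open BA

theorem AF.U_one (h : AF d) : d.U 0 0 0 = 1 := by
  have := h.mul 0 0 0 0 0 0
  rw [Ue (show _ = 0 ∧ _ = 0 ∧ _ = 0 by decide)] at this
  exact mul_eq_left.1 this

theorem AF.U_inv (h : AF d) (l f k : F4) : (d.U l f k)⁻¹ = d.U l f (k + l + l * f) := by
  refine inv_eq_of_mul_eq_one_right ?_
  rw [h.mul, ← h.U_one]
  exact Ue (by revert l f k; decide)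

theorem AF.U_inj (h : AF d) {l f k l' f' k' : F4} (e : d.U l f k = d.U l' f' k') :
    l = l' ∧ f = f' ∧ k = k' := by
  have h1 : d.U l f k * (d.U l' f' k')⁻¹ = 1 := by rw [e, mul_inv_cancel]
  rw [h.U_inv, h.mul] at h1
  have h2 := h.inj _ _ _ h1
  clear e h1
  revert l f k l' f' k'
  decide +kernel

theorem AF.U_conj (h : AF d) (l f k l' f' k' : F4) :
    d.U l f k * d.U l' f' k' * (d.U l f k)⁻¹ = d.U l' f' (k' + l' * f + l * f') := by
  rw [h.U_inv, h.mul, h.mul]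
  exact Ue (by decide +revert +kernel)

theorem AF.s_ne (h : AF d) (l f k : F4) : d.U l f k ≠ d.s := fun e => by
  have h1 := h.U_conj l f k 0 0 F4.w
  rw [e, h.sU] at h1
  have h2 := (h.U_inj h1).2.2
  clear e h1
  revert l f
  decide

namespace BA

theorem mem_of_cube (h : AF d) {x : A} (hx : x * x * x = 1) : x ∈ d.L := by
  have h1 : x * x ∈ d.L := mul_self_mem_of_index_two h.idx x
  rw [eq_inv_of_mul_eq_one_left hx] at h1
  exact inv_mem_iff.1 h1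

theorem s_inv (h : AF d) : d.s⁻¹ = d.s := inv_eq_of_mul_eq_one_right h.s2

theorem sU' (h : AF d) (l f k : F4) : d.s * d.U l f k = d.U (l * l) (f * f) (k * k) * d.s := by
  rw [← h.sU, inv_mul_cancel_right]

theorem Us_inv (h : AF d) (l f k : F4) : (d.U l f k * d.s)⁻¹ =
    d.U (l * l) (f * f) ((k + l + l * f) * (k + l + l * f)) * d.s := by
  rw [mul_inv_rev, s_inv h, h.U_inv, sU' h]

theorem Us_conj (h : AF d) (l f k l' f' k' : F4) :
    d.U l f k * d.s * d.U l' f' k' * (d.U l f k * d.s)⁻¹ =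
      d.U (l' * l') (f' * f') (k' * k' + l' * l' * f + l * (f' * f')) := by
  rw [← h.U_conj l f k, ← h.sU]
  group

theorem UU (h : AF d) (l f k l' f' k' : F4) : d.U l f k * d.s * d.U l' f' k' =
    d.U l f k * d.U (l' * l') (f' * f') (k' * k') * d.s := by
  rw [mul_assoc, sU' h, mul_assoc]

theorem UU' (h : AF d) (l f k l' f' k' : F4) : d.U l f k * d.s * (d.U l' f' k' * d.s) =
    d.U l f k * d.U (l' * l') (f' * f') (k' * k') := by
  rw [← mul_assoc, UU h, mul_assoc, h.s2, mul_one]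

/-- the explicit form of `T1` -/
def T (h : AF d) : Subgroup A where
  carrier := {x | ∃ l f k, x = d.U l f k ∨ x = d.U l f k * d.s}
  one_mem' := ⟨0, 0, 0, .inl h.U_one.symm⟩
  mul_mem' := by
    rintro _ _ ⟨l, f, k, rfl | rfl⟩ ⟨l', f', k', rfl | rfl⟩
    · exact ⟨_, _, _, .inl (h.mul ..)⟩
    · exact ⟨_, _, _, .inr (by rw [← mul_assoc, h.mul])⟩
    · exact ⟨_, _, _, .inr (by rw [UU h, h.mul])⟩
    · exact ⟨_, _, _, .inl (by rw [UU' h, h.mul])⟩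
  inv_mem' := by
    rintro _ ⟨l, f, k, rfl | rfl⟩
    · exact ⟨_, _, _, .inl (h.U_inv ..)⟩
    · exact ⟨_, _, _, .inr (Us_inv h ..)⟩

theorem U_T1 (l f k : F4) : d.U l f k ∈ T1 d := subset_closure (.inl ⟨l, f, k, rfl⟩)

theorem s_T1 : d.s ∈ T1 d := subset_closure (.inr rfl)

end BA

theorem AF.rL (h : AF d) : d.r ∈ d.L := mem_of_cube h h.r3

theorem AF.pL (h : AF d) : d.p ∈ d.L := mem_of_cube h h.p3

theorem AF.js (h : AF d) : d.j * d.s = d.s * d.j := by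
  have ha : d.s * d.U 0 1 0 * d.s⁻¹ = d.U 0 1 0 := (h.sU 0 1 0).trans (Ue (by decide))
  have hz : d.s * d.U 0 0 1 * d.s⁻¹ = d.U 0 0 1 := (h.sU 0 0 1).trans (Ue (by decide))
  have hc : d.s * (d.U 0 1 0 * d.U 0 F4.v 0) * d.s⁻¹ = d.U 0 F4.v 0 := by
    rw [h.mul, h.sU]; exact Ue (by decide)
  have hr : d.s * d.r⁻¹ * d.s⁻¹ = d.r := by
    rw [← conj_inv, h.sr, inv_inv]
  have key : ∀ x y : A, d.j * x = x * d.j → d.s * x * d.s⁻¹ = y →
      d.s * d.j * d.s⁻¹ * y = y * (d.s * d.j * d.s⁻¹) := fun x y h1 h2 => by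
    rw [← h2]
    calc _ = d.s * (d.j * x) * d.s⁻¹ := by group
      _ = _ := by rw [h1]; group
  refine (of_cj (h.cj _ (key _ _ h.ja ha) (key _ _ ?_ hc) ?_ ?_)).symm
  · rw [← mul_assoc, h.ja, mul_assoc, h.jc, mul_assoc]
  · calc _ = d.s * (d.j * d.r * d.j⁻¹)⁻¹ * d.s⁻¹ := by
          conv_lhs => rw [← hr]
          rw [mul_assoc d.s d.r⁻¹, ← mul_assoc (d.s * d.j * d.s⁻¹), s_inv h, mul_assoc _ d.s d.s, h.s2,
            mul_inv_rev, mul_inv_rev, s_inv h, mul_assoc, mul_assoc, mul_assoc, mul_assoc,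
            ← mul_assoc d.s d.s, h.s2]
          group
      _ = _ := by rw [h.jr, inv_inv, h.sr]
  · calc _ = d.s * (d.j * d.U 0 0 1) ^ 3 * d.s⁻¹ := by
          rw [← conj_pow]
          congr 1
          conv_lhs => rw [← hz]
          group
      _ = 1 := by rw [h.jz]; group

theorem AF.mem_T1 (h : AF d) {x : A} :
    x ∈ T1 d ↔ ∃ l f k, x = d.U l f k ∨ x = d.U l f k * d.s := by
  constructor
  · intro hx
    refine (closure_le (T h)).2 ?_ hx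
    rintro _ (⟨l, f, k, rfl⟩ | rfl)
    · exact ⟨l, f, k, .inl rfl⟩
    · exact ⟨0, 0, 0, .inr (by rw [h.U_one, one_mul])⟩
  · rintro ⟨l, f, k, rfl | rfl⟩
    · exact U_T1 _ _ _
    · exact mul_mem (U_T1 _ _ _) s_T1

namespace BA

theorem U_ne (h : AF d) (l f k l' f' k' : F4) : d.U l f k ≠ d.U l' f' k' * d.s := fun e =>
  h.s_ne _ _ _ ((h.mul l' f' (k' + l' + l' * f') l f k).symm.trans
    (by rw [← h.U_inv, e, inv_mul_cancel_left]))

end BA

theorem AF.card_T1 (h : AF d) : Nat.card (T1 d) = 128 := by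
  let g : F4 × F4 × F4 × Bool → T1 d := fun a =>
    ⟨if a.2.2.2 then d.U a.1 a.2.1 a.2.2.1 * d.s else d.U a.1 a.2.1 a.2.2.1, by
      split_ifs
      exacts [mul_mem (U_T1 _ _ _) s_T1, U_T1 _ _ _]⟩
  have hg : Function.Bijective g := by
    constructor
    · rintro ⟨l, f, k, i⟩ ⟨l', f', k', i'⟩ e
      have e' := congrArg Subtype.val e
      cases i <;> cases i' <;> simp only [g, if_true, Bool.false_eq_true, if_false] at e'
      · obtain ⟨rfl, rfl, rfl⟩ := h.U_inj e'; rfl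
      · exact absurd e' (U_ne h _ _ _ _ _ _)
      · exact absurd e'.symm (U_ne h _ _ _ _ _ _)
      · obtain ⟨rfl, rfl, rfl⟩ := h.U_inj (mul_right_cancel e'); rfl
    · rintro ⟨x, hx⟩
      obtain ⟨l, f, k, rfl | rfl⟩ := h.mem_T1.1 hx
      exacts [⟨(l, f, k, false), rfl⟩, ⟨(l, f, k, true), rfl⟩]
  rw [← Nat.card_eq_of_bijective g hg, Nat.card_eq_fintype_card]
  rfl

theorem AF.zT (h : AF d) {x : A} (hx : x ∈ T1 d) (hU : ∀ l f k, x * d.U l f k = d.U l f k * x)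
    (hs : x * d.s = d.s * x) : x = 1 ∨ x = d.U 0 0 1 := by
  obtain ⟨l, f, k, rfl | rfl⟩ := h.mem_T1.1 hx
  · have h1 := (h.U_inj ((h.U_conj ..).symm.trans (cj_of (hU 1 0 0)))).2.2
    have h2 := (h.U_inj ((h.U_conj ..).symm.trans (cj_of (hU 0 1 0)))).2.2
    have h3 := (h.U_inj ((h.sU ..).symm.trans (cj_of hs.symm))).2.2
    have h4 : l = 0 ∧ f = 0 ∧ (k = 0 ∨ k = 1) := by
      clear hx hU hs
      revert l f k
      decide
    obtain ⟨rfl, rfl, rfl | rfl⟩ := h4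
    exacts [.inl h.U_one, .inr rfl]
  · have h1 := (h.U_inj ((Us_conj h ..).symm.trans (cj_of (hU 0 0 F4.w)))).2.2
    exfalso
    clear hx hU hs
    revert l f
    decide

namespace BA

theorem p_inv (h : AF d) : d.p⁻¹ = d.p * d.p := (eq_inv_of_mul_eq_one_left h.p3).symm

theorem cz' (h : AF d) {x : A} (hx : x * d.U 0 0 1 = d.U 0 0 1 * x) :
    ∃ y ∈ T1 d, x = y ∨ x = y * d.p ∨ x = y * d.p * d.p := by
  obtain ⟨l, f, k, i, n, rfl⟩ := h.cz x hx
  refine ⟨_, mul_mem (U_T1 l f k) (pow_mem s_T1 i), ?_⟩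
  have h3 : d.p ^ 3 = 1 := by rw [pow_three', h.p3]
  rw [pow_eq_pow_mod n h3]
  have : n % 3 = 0 ∨ n % 3 = 1 ∨ n % 3 = 2 := by omega
  rcases this with e | e | e <;> rw [e]
  · exact .inl (by rw [pow_zero, mul_one])
  · exact .inr (.inl (by rw [pow_one]))
  · exact .inr (.inr (by rw [pow_two, mul_assoc _ d.p]))

theorem T1_z (h : AF d) {y : A} (hy : y ∈ T1 d) : y * d.U 0 0 1 = d.U 0 0 1 * y := by
  refine of_cj ?_
  obtain ⟨l, f, k, rfl | rfl⟩ := h.mem_T1.1 hy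
  · rw [h.U_conj]; exact Ue (by clear * -; decide +revert)
  · rw [Us_conj h]; exact Ue (by clear * -; decide +revert)

theorem T1_F (h : AF d) {y : A} (hy : y ∈ T1 d) {f : F4} (hf : f * f = f) (k : F4) :
    ∃ k', y * d.U 0 f k * y⁻¹ = d.U 0 f k' := by
  obtain ⟨l', f', k', rfl | rfl⟩ := h.mem_T1.1 hy
  · exact ⟨_, h.U_conj ..⟩
  · exact ⟨_, by rw [Us_conj h, hf, mul_zero]⟩

theorem p_ne (h : AF d) : d.p ≠ 1 := fun e => by
  have := h.pa
  rw [e, one_mul, inv_one, mul_one] at this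
  exact h.s_ne _ _ _ this

theorem pC (h : AF d) (k : F4) : d.p * d.U 0 0 k * d.p⁻¹ =
    d.U (k + k * k) (k + k * k) (F4.w * k + F4.w * k * (F4.w * k)) := by
  cases k
  · exact (by rw [h.U_one, mul_one, mul_inv_cancel] : d.p * d.U 0 0 0 * d.p⁻¹ = d.U 0 0 0)
  · exact h.pz
  · have : d.U 0 0 F4.w = d.U 0 0 1 * d.U 0 0 F4.v := by rw [h.mul]; exact Ue (by decide)
    rw [this, ← conj_mul, h.pz, h.py1, h.mul]
    exact Ue (by decide)
  · exact h.py1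

theorem pY (h : AF d) (k : F4) : d.p * d.U 1 1 k * d.p⁻¹ =
    d.U 1 1 F4.v * d.U (k + k * k) (k + k * k) (F4.w * k + F4.w * k * (F4.w * k)) := by
  have : d.U 1 1 k = d.U 1 1 0 * d.U 0 0 k := by rw [h.mul]; exact Ue (by clear * -; decide +revert)
  rw [this, ← conj_mul, h.py2, pC h]

theorem isP (h : AF d) : IsPGroup 2 (T1 d) := IsPGroup.of_card (n := 7) h.card_T1

end BA

theorem AF.syl_T1 (h : AF d) : ¬ 2 ∣ (T1 d).index := by
  obtain ⟨S, hS⟩ := (isP h).exists_le_sylow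
  rcases hS.eq_or_lt with e | hlt
  · rw [e]; exact S.not_dvd_index
  obtain ⟨g, ⟨hg, hn⟩, hg'⟩ := SetLike.exists_of_lt (lt_inf_normalizer S.isPGroup' hlt)
  have hc : ∀ y ∈ T1 d, g * d.U 0 0 1 * g⁻¹ * y = y * (g * d.U 0 0 1 * g⁻¹) := fun y hy => by
    have h1 := T1_z h (conj_mem_of_mem_normalizer (inv_mem hn) hy)
    calc _ = g * (d.U 0 0 1 * (g⁻¹ * y * g⁻¹⁻¹)) * g⁻¹ := by group
      _ = _ := by rw [← h1]; group
  have hz : g * d.U 0 0 1 = d.U 0 0 1 * g := by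
    rcases h.zT (conj_mem_of_mem_normalizer hn (U_T1 0 0 1)) (fun l f k => hc _ (U_T1 _ _ _))
      (hc _ s_T1) with e | e
    · exact absurd (h.inj _ _ _ (conj_eq_one_iff.1 e)).2.2 (by decide)
    · exact of_cj e
  have hp : d.p ∉ (S : Subgroup A) := fun hp => by
    obtain ⟨n, hn⟩ := S.isPGroup' ⟨_, hp⟩
    have h1 : d.p ^ 2 ^ n = 1 := congrArg Subtype.val hn
    have h3 : d.p ^ 3 = 1 := by rw [pow_three', h.p3]
    have h4 := pow_gcd_eq_one.2 ⟨h1, h3⟩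
    rw [Nat.Coprime.pow_left n (by norm_num : Nat.Coprime 2 3), pow_one] at h4
    exact p_ne h h4
  obtain ⟨y, hy, rfl | rfl | rfl⟩ := cz' h hz
  · exact absurd hy hg'
  · exact absurd ((mul_mem_cancel_left (hS hy)).1 hg) hp
  · rw [mul_assoc, ← p_inv h] at hg
    exact absurd (inv_mem_iff.1 ((mul_mem_cancel_left (hS hy)).1 hg)) hp

theorem AF.nzV (h : AF d) {x : A} (h1 : x * d.U 0 0 1 = d.U 0 0 1 * x)
    (h2 : ∃ k, x * d.U 0 0 F4.w * x⁻¹ = d.U 0 0 k) : x ∈ T1 d := by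
  obtain ⟨k, h2⟩ := h2
  obtain ⟨y, hy, rfl | rfl | rfl⟩ := cz' h h1
  · exact hy
  · obtain ⟨k', e⟩ := T1_F h (inv_mem hy) (f := 0) (by decide) k
    have e2 : d.p * d.U 0 0 F4.w * d.p⁻¹ = d.U 0 0 k' := by rw [← e, ← h2]; group
    rw [pC h] at e2
    exact absurd (h.U_inj e2).1 (by decide)
  · obtain ⟨k', e⟩ := T1_F h (inv_mem hy) (f := 0) (by decide) k
    have e2 : d.p * (d.p * d.U 0 0 F4.w * d.p⁻¹) * d.p⁻¹ = d.U 0 0 k' := by rw [← e, ← h2]; group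
    rw [pC h, Ue (show _ = 1 ∧ _ = 1 ∧ _ = 1 by decide), pY h, h.mul] at e2
    exact absurd (h.U_inj e2).1 (by decide)

theorem AF.cV (h : AF d) {x : A} (h1 : x * d.U 0 0 1 = d.U 0 0 1 * x)
    (h2 : x * d.U 0 0 F4.w = d.U 0 0 F4.w * x) : ∃ l f k, x = d.U l f k := by
  obtain ⟨l, f, k, rfl | rfl⟩ := h.mem_T1.1 (h.nzV h1 ⟨_, cj_of h2⟩)
  · exact ⟨l, f, k, rfl⟩
  · have h3 := (h.U_inj ((Us_conj h ..).symm.trans (cj_of h2))).2.2
    exfalso
    clear h1 h2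
    revert l f
    decide

namespace BA

theorem rC (h : AF d) (n : ℕ) (k : F4) : d.r ^ n * d.U 0 0 k * (d.r ^ n)⁻¹ = d.U 0 0 (F4.w ^ n * k) := by
  induction n with
  | zero => simp
  | succ n ih =>
    rw [pow_succ', pow_succ', mul_assoc F4.w, ← mul_zero F4.w, ← h.rU, mul_zero, ← ih]
    group

theorem ex_pow {k : F4} (hk : k ≠ 0) : ∃ n : ℕ, F4.w ^ n * 1 = k := by
  cases k
  · exact absurd rfl hk
  · exact ⟨0, by decide⟩
  · exact ⟨1, by decide⟩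
  · exact ⟨2, by decide⟩

end BA

theorem AF.nV (h : AF d) {x : A} (h1 : ∀ k, ∃ k', x * d.U 0 0 k * x⁻¹ = d.U 0 0 k') :
    ∃ n : ℕ, ∃ y ∈ T1 d, x = d.r ^ n * y := by
  obtain ⟨k, e⟩ := h1 1
  have hk : k ≠ 0 := by
    rintro rfl
    rw [h.U_one] at e
    exact absurd (h.inj _ _ _ (conj_eq_one_iff.1 e)).2.2 (by decide)
  obtain ⟨n, rfl⟩ := ex_pow hk
  refine ⟨n, (d.r ^ n)⁻¹ * x, h.nzV (of_cj ?_) ?_, by group⟩
  · calc _ = (d.r ^ n)⁻¹ * (x * d.U 0 0 1 * x⁻¹) * d.r ^ n := by group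
      _ = _ := by rw [e, ← rC h]; group
  · obtain ⟨k, e'⟩ := h1 F4.w
    refine ⟨(F4.w ^ n)⁻¹ * k, ?_⟩
    calc _ = (d.r ^ n)⁻¹ * (x * d.U 0 0 F4.w * x⁻¹) * d.r ^ n := by group
      _ = _ := by
        rw [e', ← mul_inv_cancel_left₀ (pow_ne_zero n (by decide : F4.w ≠ 0)) k, ← rC h,
          mul_inv_cancel_left₀ (pow_ne_zero n (by decide : F4.w ≠ 0))]
        group

theorem AF.conj_z (h : AF d) {l f k : F4} (e : l ≠ 0 ∧ f = 1 ∨ l = 0 ∧ f = 0 ∧ k ≠ 0) :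
    IsConj (d.U 0 0 1) (d.U l f k) := by
  have h1 : ∀ k : F4, k ≠ 0 → IsConj (d.U 0 0 1) (d.U 0 0 k) := fun k hk => by
    obtain ⟨n, rfl⟩ := ex_pow hk
    exact isConj_iff.2 ⟨_, rC h n 1⟩
  rcases e with ⟨hl, rfl⟩ | ⟨rfl, rfl, hk⟩
  · have h2 : IsConj (d.U 0 0 1) (d.U 1 1 0) := (h1 _ (by decide)).trans (isConj_iff.2 ⟨_, h.py1⟩)
    have h3 : IsConj (d.U 0 0 1) (d.U F4.w 1 0) := h2.trans (isConj_iff.2 ⟨_, h.rU 1 1 0⟩)
    have h4 : IsConj (d.U 0 0 1) (d.U F4.v 1 0) := h3.trans (isConj_iff.2 ⟨_, h.rU F4.w 1 0⟩)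
    have h5 : IsConj (d.U 0 0 1) (d.U l 1 0) := by
      cases l
      exacts [absurd rfl hl, h2, h3, h4]
    refine h5.trans (isConj_iff.2 ⟨d.U 0 (l * l * k) 0, ?_⟩)
    rw [h.U_conj]
    exact Ue (by revert hl; clear * -; decide +revert)
  · exact h1 k hk

theorem AF.conj_a (h : AF d) (k : F4) : IsConj (d.U 0 1 0) (d.U 0 1 k) :=
  isConj_iff.2 ⟨d.U k 0 0, by rw [h.U_conj]; exact Ue (by clear * -; decide +revert)⟩

theorem AF.nF (h : AF d) {x : A} (h1 : ∀ f k, ∃ f' k', x * d.U 0 f k * x⁻¹ = d.U 0 f' k') :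
    ∃ n : ℕ, ∃ y ∈ T1 d, x = d.r ^ n * y := by
  refine h.nV fun k => ?_
  obtain ⟨f', k', e⟩ := h1 0 k
  have h2 : f' * f' = f' := (h.memL 0 f' k').1
    (e ▸ (normal_of_index_eq_two h.idx).conj_mem _ ((h.memL 0 0 k).2 (by decide)) x)
  rcases (by revert h2; clear * -; decide +revert : f' = 0 ∨ f' = 1) with rfl | rfl
  · exact ⟨k', e⟩
  · by_cases hk : k = 0
    · rw [hk, h.U_one, mul_one, mul_inv_cancel] at e
      exact absurd (h.inj _ _ _ e.symm).2.1 (by decide)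
    · exact absurd (((h.conj_z (.inr ⟨rfl, rfl, hk⟩)).trans (isConj_iff.2 ⟨x, e⟩)).trans
        (h.conj_a k').symm) h.za

theorem AF.cza (h : AF d) {x : A} (h1 : x * d.U 0 0 1 = d.U 0 0 1 * x)
    (h2 : x * d.U 0 1 0 = d.U 0 1 0 * x) (h3 : x * d.s = d.s * x) :
    ∃ f k, f * f = f ∧ k * k = k ∧ (x = d.U 0 f k ∨ x = d.U 0 f k * d.s) := by
  have hT : x ∈ T1 d := by
    obtain ⟨y, hy, rfl | rfl | rfl⟩ := cz' h h1
    · exact hy
    · obtain ⟨k', e⟩ := T1_F h (inv_mem hy) (f := 1) (by decide) 0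
      have e2 : d.p * d.U 0 1 0 * d.p⁻¹ = d.U 0 1 k' := by
        rw [← e]
        conv_rhs => rw [← cj_of h2]
        group
      exact absurd (e2.symm.trans h.pa) (h.s_ne _ _ _)
    · obtain ⟨k', e⟩ := T1_F h (inv_mem hy) (f := 1) (by decide) 0
      have e2 : d.p * (d.p * d.U 0 1 0 * d.p⁻¹) * d.p⁻¹ = d.U 0 1 k' := by
        rw [← e]
        conv_rhs => rw [← cj_of h2]
        group
      rw [h.pa, h.ps] at e2
      exact absurd e2.symm (U_ne h _ _ _ _ _ _)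
  obtain ⟨l, f, k, rfl | rfl⟩ := h.mem_T1.1 hT
  · have h4 := (h.U_inj ((h.U_conj ..).symm.trans (cj_of h2))).2.2
    have h5 := h.U_inj ((h.sU ..).symm.trans (cj_of h3.symm))
    obtain rfl : l = 0 := by revert h4; clear * -; decide +revert
    exact ⟨f, k, h5.2.1, h5.2.2, .inl rfl⟩
  · have h4 := (h.U_inj ((Us_conj h ..).symm.trans (cj_of h2))).2.2
    have h6 : d.s * d.U l f k = d.U l f k * d.s := by
      rw [← mul_assoc] at h3
      exact (mul_right_cancel h3).symm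
    have h5 := h.U_inj ((h.sU ..).symm.trans (cj_of h6))
    obtain rfl : l = 0 := by revert h4; clear * -; decide +revert
    exact ⟨f, k, h5.2.1, h5.2.2, .inr rfl⟩

theorem AF.cpU (h : AF d) {l f k : F4} (e : d.p * d.U l f k = d.U l f k * d.p) :
    (l = 0 ∧ f = 0 ∨ l = F4.w ∧ f = F4.w) ∧ k * k = k := by
  have h1 : d.U l f k * d.U 1 1 0 * (d.U l f k)⁻¹ = d.U 1 1 0 := by
    have h2 : d.U l f k * d.U 0 0 F4.v * (d.U l f k)⁻¹ = d.U 0 0 F4.v := by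
      rw [h.U_conj]; exact Ue (by clear * -; decide +revert)
    rw [← h.py1]
    conv_lhs => rw [← cj_of e]
    conv_rhs => rw [← h2]
    group
  rw [h.U_conj] at h1
  obtain rfl : l = f := by
    have := (h.U_inj h1).2.2
    revert this; clear * -; decide +revert
  have c0 : ∀ k, d.p * d.U 0 0 k * d.p⁻¹ = d.U 0 0 k → k * k = k := fun k e => by
    rw [pC h] at e
    have := (h.U_inj e).1
    revert this; clear * -; decide +revert
  have c1 : ∀ k, d.p * d.U 1 1 k * d.p⁻¹ ≠ d.U 1 1 k := fun k e => by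
    rw [pY h, h.mul] at e
    have := h.U_inj e
    revert this; clear * -; decide +revert
  have ce : d.p * ((d.U F4.w F4.w 0)⁻¹ * d.U l l k) * d.p⁻¹ = (d.U F4.w F4.w 0)⁻¹ * d.U l l k := by
    rw [← conj_mul, cj_of e, ← conj_inv, h.pe]
  rw [h.U_inv, h.mul] at ce
  cases l
  · exact ⟨.inl ⟨rfl, rfl⟩, c0 k (cj_of e)⟩
  · exact absurd (cj_of e) (c1 k)
  · have := c0 _ ce
    exact ⟨.inr ⟨rfl, rfl⟩, by revert this; clear * -; decide +revert⟩
  · exact absurd ce (c1 _)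

namespace BA

theorem f2a {l l' : F4} (h : l * l = l) (h' : l' * l' = l') : (l + l') * (l + l') = l + l' := by
  revert l l'; decide

theorem f2b {l : F4} (h : l * l = l) : l * l * (l * l) = l * l := by revert l; decide

theorem f2c (l : F4) : (l + l * l) * (l + l * l) = l + l * l := by revert l; decide

/-- the extraspecial group of order 32 -/
def Q (h : AF d) : Subgroup A where
  carrier := {x | ∃ l f k, l * l = l ∧ f * f = f ∧ (x = d.U l f k ∨ x = d.U l f k * d.s)}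
  one_mem' := ⟨0, 0, 0, by decide, by decide, .inl h.U_one.symm⟩
  mul_mem' := by
    rintro _ _ ⟨l, f, k, hl, hf, rfl | rfl⟩ ⟨l', f', k', hl', hf', rfl | rfl⟩
    · exact ⟨_, _, _, f2a hl hl', f2a hf hf', .inl (h.mul ..)⟩
    · exact ⟨_, _, _, f2a hl hl', f2a hf hf', .inr (by rw [← mul_assoc, h.mul])⟩
    · exact ⟨_, _, _, f2a hl (f2b hl'), f2a hf (f2b hf'), .inr (by rw [UU h, h.mul])⟩
    · exact ⟨_, _, _, f2a hl (f2b hl'), f2a hf (f2b hf'), .inl (by rw [UU' h, h.mul])⟩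
  inv_mem' := by
    rintro _ ⟨l, f, k, hl, hf, rfl | rfl⟩
    · exact ⟨_, _, _, hl, hf, .inl (h.U_inv ..)⟩
    · exact ⟨_, _, _, f2b hl, f2b hf, .inr (Us_inv h ..)⟩

theorem U_Q (h : AF d) {l f : F4} (hl : l * l = l) (hf : f * f = f) (k : F4) : d.U l f k ∈ Q h :=
  ⟨l, f, k, hl, hf, .inl rfl⟩

theorem s_Q (h : AF d) : d.s ∈ Q h :=
  ⟨0, 0, 0, by decide, by decide, .inr (by rw [h.U_one, one_mul])⟩

theorem Q_le (h : AF d) : Q h ≤ T1 d := fun _ ⟨l, f, k, _, _, e⟩ => h.mem_T1.2 ⟨l, f, k, e⟩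

theorem nQ (h : AF d) {g : A} (h1 : ∀ l f k, l * l = l → f * f = f → g * d.U l f k * g⁻¹ ∈ Q h)
    (h2 : g * d.s * g⁻¹ ∈ Q h) : ∀ y ∈ Q h, g * y * g⁻¹ ∈ Q h := by
  rintro _ ⟨l, f, k, hl, hf, rfl | rfl⟩
  · exact h1 l f k hl hf
  · rw [← conj_mul]; exact mul_mem (h1 l f k hl hf) h2

theorem pQ1 (h : AF d) (l f k : F4) (hl : l * l = l) (hf : f * f = f) :
    d.p * d.U l f k * d.p⁻¹ ∈ Q h := by
  have hC : ∀ k, d.p * d.U 0 0 k * d.p⁻¹ ∈ Q h := fun k => pC h k ▸ U_Q h (f2c k) (f2c k) _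
  have ha : d.p * d.U 0 1 0 * d.p⁻¹ ∈ Q h := h.pa ▸ s_Q h
  have hy : d.p * d.U 1 1 0 * d.p⁻¹ ∈ Q h := h.py2 ▸ U_Q h (by decide) (by decide) _
  rcases (by revert hl; clear * -; decide +revert : l = 0 ∨ l = 1) with rfl | rfl <;>
    rcases (by revert hf; clear * -; decide +revert : f = 0 ∨ f = 1) with rfl | rfl
  · exact hC k
  · have : d.U 0 1 k = d.U 0 1 0 * d.U 0 0 k := by rw [h.mul]; exact Ue (by clear * -; decide +revert)
    rw [this, ← conj_mul]; exact mul_mem ha (hC k)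
  · have : d.U 1 0 k = d.U 1 1 0 * d.U 0 1 0 * d.U 0 0 k := by
      rw [h.mul, h.mul]; exact Ue (by clear * -; decide +revert)
    rw [this, ← conj_mul, ← conj_mul]; exact mul_mem (mul_mem hy ha) (hC k)
  · have : d.U 1 1 k = d.U 1 1 0 * d.U 0 0 k := by rw [h.mul]; exact Ue (by clear * -; decide +revert)
    rw [this, ← conj_mul]; exact mul_mem hy (hC k)

theorem pQ2 (h : AF d) : ∀ y ∈ Q h, d.p * y * d.p⁻¹ ∈ Q h :=
  nQ h (pQ1 h) (h.ps ▸ mul_mem (U_Q h (by decide) (by decide) _) (s_Q h))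

theorem UQ (h : AF d) (l f k : F4) : ∀ y ∈ Q h, d.U l f k * y * (d.U l f k)⁻¹ ∈ Q h := by
  refine nQ h (fun l' f' k' hl hf => h.U_conj l f k l' f' k' ▸ U_Q h hl hf _) ?_
  rw [h.U_inv, UU h, h.mul]
  exact mul_mem (U_Q h (f2c l) (f2c f) _) (s_Q h)

theorem TQ (h : AF d) {g : A} (hg : g ∈ T1 d) : ∀ y ∈ Q h, g * y * g⁻¹ ∈ Q h := fun y hy => by
  obtain ⟨l, f, k, rfl | rfl⟩ := h.mem_T1.1 hg
  · exact UQ h l f k y hy
  · have := UQ h l f k _ (mul_mem (mul_mem (s_Q h) hy) (inv_mem (s_Q h)))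
    simpa only [mul_inv_rev, mul_assoc] using this

theorem zQ (h : AF d) {g : A} (hg : g * d.U 0 0 1 = d.U 0 0 1 * g) :
    ∀ y ∈ Q h, g * y * g⁻¹ ∈ Q h := fun y hy => by
  obtain ⟨x, hx, rfl | rfl | rfl⟩ := cz' h hg
  · exact TQ h hx y hy
  · simpa only [mul_inv_rev, mul_assoc] using TQ h hx _ (pQ2 h y hy)
  · simpa only [mul_inv_rev, mul_assoc] using TQ h hx _ (pQ2 h _ (pQ2 h y hy))

end BA

/-- `Q = 2^(1+4)` is normalised by `p` -/
theorem AF.pQ (h : AF d) {l f : F4} (hl : l * l = l) (hf : f * f = f) (k : F4) :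
    ∃ l' f' k', l' * l' = l' ∧ f' * f' = f' ∧
      (d.p * d.U l f k * d.p⁻¹ = d.U l' f' k' ∨ d.p * d.U l f k * d.p⁻¹ = d.U l' f' k' * d.s) :=
  pQ1 h l f k hl hf

/-- `Q ⟨p⟩` is normal in `C(z)` -/
theorem AF.nQp (h : AF d) {x : A} (hx : x * d.U 0 0 1 = d.U 0 0 1 * x) {y : A}
    (hy : y ∈ closure ({y | ∃ l f k, l * l = l ∧ f * f = f ∧ y = d.U l f k} ∪ {d.s, d.p})) :
    x * y * x⁻¹ ∈ closure ({y | ∃ l f k, l * l = l ∧ f * f = f ∧ y = d.U l f k} ∪ {d.s, d.p}) := by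
  set K := closure ({y | ∃ l f k, l * l = l ∧ f * f = f ∧ y = d.U l f k} ∪ {d.s, d.p}) with hK
  have hU : ∀ l f k, l * l = l → f * f = f → d.U l f k ∈ K := fun l f k hl hf =>
    subset_closure (.inl ⟨l, f, k, hl, hf, rfl⟩)
  have hs : d.s ∈ K := subset_closure (.inr (.inl rfl))
  have hp : d.p ∈ K := subset_closure (.inr (.inr rfl))
  have hQ : Q h ≤ K := by
    rintro _ ⟨l, f, k, hl, hf, rfl | rfl⟩
    exacts [hU l f k hl hf, mul_mem (hU l f k hl hf) hs]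
  have gen : ∀ g : A, g * d.U 0 0 1 = d.U 0 0 1 * g → g * d.p * g⁻¹ ∈ K →
      ∀ y ∈ K, g * y * g⁻¹ ∈ K := fun g h1 h2 y hy => by
    refine (closure_le (K.comap (MulAut.conj g).toMonoidHom)).2 ?_ hy
    rintro _ (⟨l, f, k, hl, hf, rfl⟩ | rfl | rfl)
    exacts [hQ (zQ h h1 _ (U_Q h hl hf k)), hQ (zQ h h1 _ (s_Q h)), h2]
  have p1 : ∀ l f k, l * l = l → d.U l f k * d.p * (d.U l f k)⁻¹ ∈ K := fun l f k hl => by
    by_cases hf : f * f = f
    · exact mul_mem (mul_mem (hU l f k hl hf) hp) (inv_mem (hU l f k hl hf))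
    · have e : d.U l f k = d.U l (f + F4.v) k * d.U 0 F4.v 0 := by
        rw [h.mul]; exact Ue (by clear * -; decide +revert)
      have hf' : (f + F4.v) * (f + F4.v) = f + F4.v := by revert hf; clear * -; decide +revert
      have := mul_mem (mul_mem (hU l _ k hl hf') (h.cp ▸ inv_mem hp)) (inv_mem (hU l _ k hl hf'))
      rw [e]
      simpa only [mul_inv_rev, mul_assoc] using this
  have p2 : ∀ l f k, d.U l f k * d.p * (d.U l f k)⁻¹ ∈ K := fun l f k => by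
    by_cases hl : l * l = l
    · exact p1 l f k hl
    · obtain ⟨k', e⟩ : ∃ k', d.U l f k = d.U (l + F4.w) (f + F4.w) k' * d.U F4.w F4.w 0 :=
        ⟨k + (l + F4.w) * (l + F4.w) * (F4.w * F4.w) + F4.w * (f + F4.w), by
          rw [h.mul]; exact Ue (by clear * -; decide +revert)⟩
      have hl' : (l + F4.w) * (l + F4.w) = l + F4.w := by revert hl; clear * -; decide +revert
      have := p1 _ (f + F4.w) k' hl'
      rw [← cj_of (of_cj h.pe).symm] at this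
      rw [e]
      simpa only [mul_inv_rev, mul_assoc] using this
  have hT : ∀ g ∈ T1 d, ∀ y ∈ K, g * y * g⁻¹ ∈ K := fun g hg y hy => by
    obtain ⟨l, f, k, rfl | rfl⟩ := h.mem_T1.1 hg
    · exact gen _ (T1_z h hg) (p2 l f k) y hy
    · have := gen _ (T1_z h (U_T1 l f k)) (p2 l f k) _ (mul_mem (mul_mem hs hy) (inv_mem hs))
      simpa only [mul_inv_rev, mul_assoc] using this
  obtain ⟨g, hg, rfl | rfl | rfl⟩ := cz' h hx
  · exact hT _ hg y hy
  · simpa only [mul_inv_rev, mul_assoc] using hT _ hg _ (mul_mem (mul_mem hp hy) (inv_mem hp))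
  · simpa only [mul_inv_rev, mul_assoc] using
      hT _ hg _ (mul_mem (mul_mem hp (mul_mem (mul_mem hp hy) (inv_mem hp))) (inv_mem hp))

theorem AF.ocz (h : AF d) {N : Subgroup A} (ho : Odd (Nat.card N))
    (hz : ∀ n ∈ N, n * d.U 0 0 1 = d.U 0 0 1 * n)
    (hn : ∀ x, x * d.U 0 0 1 = d.U 0 0 1 * x → ∀ n ∈ N, x * n * x⁻¹ ∈ N) : N = ⊥ := by
  have one : ∀ x ∈ N, x ∈ T1 d → x = 1 := fun x h1 h2 => by
    have h3 := orderOf_dvd_natCard (⟨x, h1⟩ : N)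
    have h4 := orderOf_dvd_natCard (⟨x, h2⟩ : T1 d)
    rw [orderOf_mk] at h3 h4
    rw [h.card_T1] at h4
    have h5 : Nat.Coprime (2 ^ 7) (Nat.card N) := (Nat.coprime_two_left.2 ho).pow_left 7
    exact orderOf_eq_one_iff.1 (Nat.eq_one_of_dvd_coprimes h5 h4 h3)
  have cm : ∀ n ∈ N, ∀ q ∈ Q h, n * q = q * n := fun n h1 q h2 => by
    have h3 : n * q * n⁻¹ * q⁻¹ = 1 := one _ (by
      simpa only [mul_assoc] using mul_mem h1 (hn q (T1_z h (Q_le h h2)) _ (inv_mem h1)))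
      (Q_le h (mul_mem (zQ h (hz n h1) q h2) (inv_mem h2)))
    exact of_cj (mul_inv_eq_one.1 h3)
  refine eq_bot_iff.2 fun n h1 => mem_bot.2 (one n h1 ?_)
  obtain ⟨f, k, -, -, e⟩ := h.cza (hz n h1) (cm n h1 _ (U_Q h (by decide) (by decide) 0))
    (cm n h1 _ (s_Q h))
  exact h.mem_T1.2 ⟨0, f, k, e⟩

theorem AF.cL (h : AF d) {x : A} (hx : ∀ l ∈ d.L, x * l = l * x) : x = 1 := by
  obtain ⟨l, f, k, rfl⟩ := h.cV (hx _ ((h.memL ..).2 (by decide))) (hx _ ((h.memL ..).2 (by decide)))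
  have h1 := h.U_inj ((h.rU ..).symm.trans (cj_of (hx _ h.rL).symm))
  have h2 := (h.U_inj ((h.U_conj ..).symm.trans
    (cj_of (hx (d.U 1 0 0) ((h.memL ..).2 (by decide)))))).2.2
  rw [← h.U_one]
  exact Ue (by revert h1 h2; clear * -; decide +revert)

namespace BA

theorem card_le {ι : Type*} {E : Subgroup A} (S : Finset ι) (g : ι → A)
    (h : ∀ x ∈ E, ∃ i ∈ S, g i = x) : Nat.card E ≤ S.card := by
  classical
  rw [← SetLike.coe_sort_coe, Nat.card_coe_set_eq]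
  refine (Set.ncard_le_ncard (t := ↑(S.image g)) (fun x hx => ?_)).trans ?_
  · obtain ⟨i, h1, h2⟩ := h x hx
    exact Finset.mem_coe.2 (Finset.mem_image.2 ⟨i, h1, h2⟩)
  · rw [Set.ncard_coe_finset]; exact Finset.card_image_le

end BA

theorem AF.e16 (h : AF d) {E : Subgroup A} (hE : E ≤ T1 d) (h2 : ∀ x ∈ E, x * x = 1)
    (hc : 16 ≤ Nat.card E) (x : A) : x ∈ E ↔ ∃ f k, x = d.U 0 f k := by
  have cm : ∀ x ∈ E, ∀ y ∈ E, x * y * x⁻¹ = y := fun x hx y hy => by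
    have := h2 _ (mul_mem hx hy)
    rw [inv_eq_of_mul_eq_one_right (h2 x hx), ← inv_eq_of_mul_eq_one_right (h2 y hy)]
    calc _ = x * (y⁻¹ * y⁻¹) * y * x * y * y⁻¹ := by group
      _ = x * y * (x * y) * y⁻¹ := by rw [h2 _ (inv_mem hy)]; group
      _ = _ := by rw [this, one_mul]
  have sq : ∀ l f k, d.U l f k ∈ E → l + l * f = 0 := fun l f k hx => by
    have := h2 _ hx
    rw [h.mul] at this
    have := (h.inj _ _ _ this).2.2
    revert this; clear * -; decide +revert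
  have hU : ∀ x ∈ E, ∃ l f k, x = d.U l f k := fun x0 hx0 => by
    obtain ⟨l0, f0, k0, rfl | rfl⟩ := h.mem_T1.1 (hE hx0)
    · exact ⟨_, _, _, rfl⟩
    let S : Finset (F4 × F4 × F4) := Finset.univ.filter fun a => a.1 + a.1 * a.2.1 = 0 ∧ a.1 * a.1 = a.1 ∧
      a.2.1 * a.2.1 = a.2.1 ∧ a.2.2 * a.2.2 + a.1 * a.1 * f0 + l0 * (a.2.1 * a.2.1) = a.2.2
    have hS : ∀ l f k, d.U l f k ∈ E → (l, f, k) ∈ S := fun l f k hx =>
      Finset.mem_filter.2 ⟨Finset.mem_univ _, sq l f k hx,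
        h.U_inj ((Us_conj h ..).symm.trans (cm _ hx0 _ hx))⟩
    have h3 := card_le (E := E) (S ×ˢ (Finset.univ : Finset Bool))
      (fun a => if a.2 then d.U a.1.1 a.1.2.1 a.1.2.2 * (d.U l0 f0 k0 * d.s)⁻¹
        else d.U a.1.1 a.1.2.1 a.1.2.2) fun x hx => by
      obtain ⟨l, f, k, rfl | rfl⟩ := h.mem_T1.1 (hE hx)
      · exact ⟨((l, f, k), false), Finset.mem_product.2 ⟨hS l f k hx, Finset.mem_univ _⟩, rfl⟩
      · have h4 := mul_mem hx hx0
        have h5 := UU' h l f k l0 f0 k0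
        rw [h.mul] at h5
        refine ⟨((_, _, _), true), Finset.mem_product.2 ⟨hS _ _ _ (h5 ▸ h4), Finset.mem_univ _⟩, ?_⟩
        simp only [if_true]
        rw [← h5, mul_inv_cancel_right]
    have h4 : S.card ≤ 6 := by
      clear hx0 hS h3
      revert l0 f0
      decide +kernel
    rw [Finset.card_product, Finset.card_univ, Fintype.card_bool] at h3
    omega
  have hF : ∀ x ∈ E, ∃ f k, x = d.U 0 f k := fun x0 hx0 => by
    obtain ⟨l0, f0, k0, rfl⟩ := hU x0 hx0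
    by_cases hl : l0 = 0
    · exact ⟨f0, k0, by rw [hl]⟩
    let S : Finset (F4 × F4 × F4) := Finset.univ.filter fun a => a.1 + a.1 * a.2.1 = 0 ∧
      a.2.2 + a.1 * f0 + l0 * a.2.1 = a.2.2
    have h3 := card_le (E := E) S (fun a => d.U a.1 a.2.1 a.2.2) fun x hx => by
      obtain ⟨l, f, k, rfl⟩ := hU x hx
      exact ⟨(l, f, k), Finset.mem_filter.2 ⟨Finset.mem_univ _, sq l f k hx,
        (h.U_inj ((h.U_conj ..).symm.trans (cm _ hx0 _ hx))).2.2⟩, rfl⟩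
    have h5 := sq _ _ _ hx0
    have h4 : S.card ≤ 8 := by
      clear hx0 h3
      revert l0 f0
      decide +kernel
    omega
  refine ⟨hF x, ?_⟩
  rintro ⟨f0, k0, rfl⟩
  by_contra hx
  have h3 := card_le (E := E) (Finset.univ.erase (f0, k0)) (fun a => d.U 0 a.1 a.2) fun x hx' => by
    obtain ⟨f, k, rfl⟩ := hF x hx'
    refine ⟨(f, k), Finset.mem_erase.2 ⟨fun e => hx ?_, Finset.mem_univ _⟩, rfl⟩
    obtain ⟨rfl, rfl⟩ := Prod.mk.inj e
    exact hx'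
  rw [Finset.card_erase_of_mem (Finset.mem_univ _), Finset.card_univ, Fintype.card_prod,
    F4.card_eq] at h3
  omega

theorem AF.sq_z (h : AF d) : d.U 1 0 0 * d.U 1 0 0 = d.U 0 0 1 := by
  rw [h.mul]; exact Ue (by decide)

theorem AF.sq_a (h : AF d) : d.U 0 F4.v 0 * d.s * (d.U 0 F4.v 0 * d.s) = d.U 0 1 0 := by
  rw [UU' h, h.mul]; exact Ue (by decide)

end Cfsg.Agent.MS
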