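import Cfsg.Agent.H29.F4
import Cfsg.Agent.H42.SylIn

/-! Definitions for the centraliser `O (⟨t⟩ × Aut M12)` (notes/MS.md). -/

set_option autoImplicit false

namespace Cfsg.Agent.MS

open Subgroup H29

/-- named elements of `A = Aut M12` -/
structure AD (A : Type*) [Group A] where
  L : Subgroup A
  U : F4 → F4 → F4 → A
  s : A
  r : A
  p : A
  j : A

variable {A G : Type*} [Group A] [Group G]

/-- the facts on `A = Aut M12`; `z = U 0 0 1`, `a = U 0 1 0`, `c = U 0 F4.v 0`, `e = U w w 0` -/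
structure AF (d : AD A) : Prop where
  idx : d.L.index = 2
  mul : ∀ l f k l' f' k', d.U l f k * d.U l' f' k' =
    d.U (l + l') (f + f') (k + k' + l * l * (l' * l') + l' * f)
  inj : ∀ l f k, d.U l f k = 1 → l = 0 ∧ f = 0 ∧ k = 0
  memL : ∀ l f k, d.U l f k ∈ d.L ↔ f * f = f
  sL : d.s ∈ d.L
  jL : d.j ∈ d.L
  s2 : d.s * d.s = 1
  sU : ∀ l f k, d.s * d.U l f k * d.s⁻¹ = d.U (l * l) (f * f) (k * k)
  r3 : d.r * d.r * d.r = 1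
  rU : ∀ l f k, d.r * d.U l f k * d.r⁻¹ = d.U (F4.w * l) f (F4.w * k)
  sr : d.s * d.r * d.s⁻¹ = d.r⁻¹
  p3 : d.p * d.p * d.p = 1
  pa : d.p * d.U 0 1 0 * d.p⁻¹ = d.s
  ps : d.p * d.s * d.p⁻¹ = d.U 0 1 0 * d.s
  pz : d.p * d.U 0 0 1 * d.p⁻¹ = d.U 0 0 1
  py1 : d.p * d.U 0 0 F4.v * d.p⁻¹ = d.U 1 1 0
  py2 : d.p * d.U 1 1 0 * d.p⁻¹ = d.U 1 1 F4.v
  pe : d.p * d.U F4.w F4.w 0 * d.p⁻¹ = d.U F4.w F4.w 0
  cp : d.U 0 F4.v 0 * d.p * (d.U 0 F4.v 0)⁻¹ = d.p⁻¹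
  j2 : d.j * d.j = 1
  ja : d.j * d.U 0 1 0 = d.U 0 1 0 * d.j
  jc : d.j * d.U 0 F4.v 0 = d.U 0 F4.v 0 * d.j
  jr : d.j * d.r * d.j⁻¹ = d.r⁻¹
  jz : (d.j * d.U 0 0 1) ^ 3 = 1
  cz : ∀ x, x * d.U 0 0 1 = d.U 0 0 1 * x → ∃ l f k, ∃ i n : ℕ, x = d.U l f k * d.s ^ i * d.p ^ n
  za : ¬ IsConj (d.U 0 0 1) (d.U 0 1 0)
  cj : ∀ x, x * d.U 0 1 0 = d.U 0 1 0 * x → x * d.U 0 F4.v 0 = d.U 0 F4.v 0 * x →
    x * d.r * x⁻¹ = d.r⁻¹ → (x * d.U 0 0 1) ^ 3 = 1 → x = d.j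

/-- the Sylow 2-subgroup `U ⟨s⟩` of `A` -/
def T1 (d : AD A) : Subgroup A := closure ({x | ∃ l f k, x = d.U l f k} ∪ {d.s})

/-- `C(t) = O (⟨t⟩ × ι A)` -/
structure Hy (d : AD A) (ι : A →* G) (t : G) (O : Subgroup G) : Prop where
  af : AF d
  inj : Function.Injective ι
  t2 : t * t = 1
  tr : ∀ l, ι l ≠ t
  tc : ∀ l, t * ι l = ι l * t
  odd : Odd (Nat.card O)
  Ot : ∀ o ∈ O, o * t = t * o
  OL : ∀ o ∈ O, ∀ l ∈ d.L, o * ι l = ι l * o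
  On : ∀ l, ∀ o ∈ O, ι l * o * (ι l)⁻¹ ∈ O
  cen : ∀ g, g * t = t * g → ∃ o ∈ O, ∃ l, g = o * ι l ∨ g = o * t * ι l

/-- `π` is the projection `N(O) → N(O)/O` -/
structure Qt {X : Type*} [Group X] (O : Subgroup G) (π : G → X) : Prop where
  mul : ∀ x ∈ normalizer (O : Set G), ∀ y ∈ normalizer (O : Set G), π (x * y) = π x * π y
  surj : ∀ q, ∃ g ∈ normalizer (O : Set G), π g = q
  ker : ∀ g ∈ normalizer (O : Set G), π g = 1 ↔ g ∈ O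

/-- `H` has a subgroup of index two which does not contain `t` -/
def Pt (H : Subgroup G) (t : G) : Prop := ∃ K : Subgroup G, K ≤ H ∧ K.relIndex H = 2 ∧ t ∉ K

section Sub

variable (d : AD A) (ι : A →* G) (t : G) (b : F4 → G) (u : G)

/-- the four-group -/
def VV : Subgroup G := closure {x | ∃ k, x = ι (d.U 0 0 k)}

/-- elementary of order 16 -/
def FF : Subgroup G := closure {x | ∃ f k, x = ι (d.U 0 f k)}

/-- elementary of order 32 -/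
def E5 : Subgroup G := closure ({x | ∃ f k, x = ι (d.U 0 f k)} ∪ {t})

/-- the Sylow 2-subgroup of `C(t)` -/
def T0 : Subgroup G := closure ({x | ∃ l f k, x = ι (d.U l f k)} ∪ {ι d.s, t})

/-- abelian of order 16 -/
def B0 : Subgroup G := closure ({x | ∃ k, x = ι (d.U 0 0 k)} ∪ Set.range b)

/-- order 256 -/
def R0 : Subgroup G := closure ({x | ∃ l f k, x = ι (d.U l f k)} ∪ Set.range b)

/-- order 512 -/
def RR : Subgroup G := closure ({x | ∃ l f k, x = ι (d.U l f k)} ∪ Set.range b ∪ {t})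

/-- elementary of order 128 in the wreathed case -/
def E7 : Subgroup G := closure ({x | ∃ f k, x = ι (d.U 0 f k)} ∪ Set.range b ∪ {u})

/-- `C(V4)` -/
def HV : Subgroup G := centralizer {x | ∃ k, x = ι (d.U 0 0 k)}

/-- `C(z) ∩ N(V4)` -/
def NZ : Subgroup G := centralizer {ι (d.U 0 0 1)} ⊓ normalizer (VV d ι : Set G)

/-- the element `g` -/
def gE : G := ι d.p * b F4.v * (ι d.p)⁻¹

/-- the involution fusing `t` to `t z` -/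
structure Uf : Prop where
  u2 : u * u = 1
  ut : u * t * u⁻¹ = t * ι (d.U 0 0 1)
  uQ : ∀ l f k, l * l = l → f * f = f → u * ι (d.U l f k) = ι (d.U l f k) * u
  us : u * ι d.s = ι d.s * u
  up : u * ι d.p = ι d.p * u
  nz : ∀ x, x * d.U 0 0 1 = d.U 0 0 1 * x →
    ι x * u * (ι x)⁻¹ = u ∨ ι x * u * (ι x)⁻¹ = u * ι (d.U 0 0 1)

/-- the elements `b m`; `η = 0` wreathed case, `η = 1` Suzuki case -/
structure Bf (η : F4) : Prop where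
  b0 : b 0 = 1
  mul : ∀ m m', b m * b m' = b (m + m') * ι (d.U 0 0 (η * (m * m) * (m' * m')))
  tb : ∀ m, t * b m * t⁻¹ = b m * ι (d.U 0 0 m)
  cU : ∀ m l f k, b m * ι (d.U l f k) = ι (d.U l f k) * b m
  sb : ∀ m, ι d.s * b m * (ι d.s)⁻¹ = b (m * m)
  rb : ∀ m, ι d.r * b m * (ι d.r)⁻¹ = b (F4.w * m)
  pb : ι d.p * b 1 = b 1 * ι d.p

/-- `n` acts on `R0 / B0` as `(l, f) ↦ (α l, α⁻¹ f)` -/
def Dg (n : G) (α : F4) : Prop := ∀ l f k, ∃ k' m, n * ι (d.U l f k) * n⁻¹ = ι (d.U (α * l) (α * α * f) k') * b m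

/-- `n` acts on `R0 / B0` as `(l, f) ↦ (α f, α⁻¹ l)` -/
def Sw (n : G) (α : F4) : Prop := ∀ l f k, ∃ k' m, n * ι (d.U l f k) * n⁻¹ = ι (d.U (α * f) (α * α * l) k') * b m

end Sub

/-- the wreathed case -/
structure Wf (d : AD A) (ι : A →* G) (t : G) (O : Subgroup G) (b : F4 → G) (u : G) : Prop where
  hy : Hy d ι t O
  bf : Bf d ι t b 0
  bO : ∀ o ∈ O, ∀ m, o * b m = b m * o
  uO : ∀ o ∈ O, o * u = u * o
  gb : ∀ m, gE d ι b * b m = b m * gE d ι b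
  gF : ∀ f k, ∃ k', gE d ι b * ι (d.U 0 f k) * (gE d ι b)⁻¹ = ι (d.U 0 f k') * b f
  u2 : u * u = 1
  ut : u * t * u⁻¹ = t * ι (d.U 0 1 0)
  uU : ∀ l f k, u * ι (d.U l f k) * u⁻¹ = ι (d.U l f k) * b l
  ub : ∀ m, u * b m = b m * u
  ur : u * ι d.r = ι d.r * u
  us : u * ι d.s = ι d.s * u
  uj : u * ι d.j = ι d.j * u
  gu : ∃ k, gE d ι b * u * (gE d ι b)⁻¹ = u * b 1 * ι (d.U 0 0 k)
  uu : u * (ι d.p * u * (ι d.p)⁻¹) = ι d.p * u * (ι d.p)⁻¹ * u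
  u3 : ∃ k, u * (ι d.p * u * (ι d.p)⁻¹) * ((ι d.p)⁻¹ * u * ι d.p) = ι (d.U 0 0 k)

/-- the big elementary abelian subgroup of the wreathed case -/
structure Ef (d : AD A) (ι : A →* G) (t : G) (O : Subgroup G) (b : F4 → G) (u : G) (E : Subgroup G) :
    Prop where
  wf : Wf d ι t O b u
  sq : ∀ x ∈ E, x * x = 1
  le : E7 d ι b u ≤ E
  nt : t ∈ normalizer (E : Set G)
  nU : ∀ l f k, ι (d.U l f k) ∈ normalizer (E : Set G)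
  ns : ι d.s ∈ normalizer (E : Set G)
  nr : ι d.r ∈ normalizer (E : Set G)
  rE : ∀ x ∈ E, ∃ y ∈ B0 d ι b, ι d.r * x * (ι d.r)⁻¹ = x * y
  tr : ∀ f k, IsConj t (t * ι (d.U 0 f k)) → ∃ x ∈ E, x * t * x⁻¹ = t * ι (d.U 0 f k)
  gg : ∃ g ∈ normalizer (E : Set G), (∀ y ∈ B0 d ι b, g * y = y * g) ∧
    ∃ k, g * ι (d.U 0 1 0) * g⁻¹ = ι (d.U 0 1 k) * b 1

/-- the element fusing `t` to `t c` -/
structure Xf (d : AD A) (ι : A →* G) (t : G) (O : Subgroup G) (b : F4 → G) (u x : G) (ν : F4) :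
    Prop where
  wf : Wf d ι t O b u
  x2 : ∃ f k, x * x = ι (d.U 0 f k)
  xF : ∀ f k, x * ι (d.U 0 f k) = ι (d.U 0 f k) * x
  xt : x * t * x⁻¹ = t * ι (d.U 0 F4.v 0)
  xb : ∀ m, x * b m * x⁻¹ = b m * ι (d.U 0 0 (ν * m))
  xu : x * u * x⁻¹ = u * ι (d.U 0 ν 0)
  xU : ∀ l f k, ∃ y ∈ E7 d ι b u, ι (d.U l f k) * x * (ι (d.U l f k))⁻¹ = x * y
  xr : ∃ y ∈ E7 d ι b u, ι d.r * x * (ι d.r)⁻¹ = x * y
  xs : ∃ y ∈ E7 d ι b u, ι d.s * x * (ι d.s)⁻¹ = x * y ∨ ι d.s * x * (ι d.s)⁻¹ = x * y * t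

/-- the Suzuki case -/
structure Zf (d : AD A) (ι : A →* G) (t : G) (O : Subgroup G) (b : F4 → G) : Prop where
  hy : Hy d ι t O
  bf : Bf d ι t b 1
  bO : ∀ o ∈ O, ∀ m, o * b m = b m * o
  AO : ∀ o ∈ O, ∀ l, o * ι l = ι l * o
  gb : ∀ m, gE d ι b * b m * (gE d ι b)⁻¹ = b m * ι (d.U 0 0 (m + m * m))
  gU : ∀ l f k, ∃ k', gE d ι b * ι (d.U l f k) * (gE d ι b)⁻¹ = ι (d.U f l k') * b (l + f)

/-- the group `2^(2+8)` of the Suzuki case -/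
structure Qf (d : AD A) (ι : A →* G) (t : G) (O : Subgroup G) (b : F4 → G) (Q : Subgroup G) :
    Prop where
  zf : Zf d ι t O b
  card : Nat.card Q = 1024
  le : R0 d ι b ≤ Q
  leH : Q ≤ HV d ι
  sq : ∀ n ∈ Q, n * n ∈ VV d ι
  act : ∀ n ∈ Q, ∃ ν, (∀ m, n * b m * n⁻¹ = b m * ι (d.U 0 0 (ν * ν * (m * m)))) ∧
    ∃ k, n * t * n⁻¹ = t * b ν * ι (d.U 0 0 k)
  all : ∀ ν, ∃ n ∈ Q, ∃ k, n * t * n⁻¹ = t * b ν * ι (d.U 0 0 k)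
  zero : ∀ n ∈ Q, ∀ k, n * t * n⁻¹ = t * ι (d.U 0 0 k) → n ∈ R0 d ι b
  nt : t ∈ normalizer (Q : Set G)
  ns : ι d.s ∈ normalizer (Q : Set G)
  ng : gE d ι b ∈ normalizer (Q : Set G)
  QO : ∀ o ∈ O, ∀ n ∈ Q, o * n = n * o

end Cfsg.Agent.MS
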