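import Cfsg.Agent.CONW.YMod
import Cfsg.Agent.MS.Defs

/-! The model of `Aut M12` on the 24 points. -/

set_option autoImplicit false

namespace Cfsg.Agent.MS

/-- `M12 : 2` on the 24 points -/
noncomputable def A24 : Subgroup (Equiv.Perm GolayPt) := Spor.M12 ⊔ Subgroup.zpowers CONW.Y.YM.pi

end Cfsg.Agent.MS
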